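import Cfsg.Agent.H981.Inv.HNTri3
import Cfsg.Agent.Lib.PackCol
import Cfsg.Agent.Prune
set_option linter.all false
prune_inst 0x7fffffffffffffffffffffffffffffffffffffffffffffffffffffffffffffffffffffbffffffffffffffffefffeffffffffffffffffff7ffffffffcffffffdfffffffbf7fffbfffdfff7fffffffffffffffffffffffffffffffffffffffffffffffffffffff
open scoped Cfsg.Agent.FastGrp

/-!
# Triangles in the Harada-Norton group: kernel checks, part 1 (helper981, for S3830)
-/

set_option autoImplicit false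
set_option maxRecDepth 100000

namespace Cfsg.Agent.H981.InvHN.T1

open Cfsg.Agent.HN Cfsg.Agent.H981.InvHN Cfsg.Agent.Lib.PackMatMul Cfsg.Agent.HN.RepData
open Cfsg.Agent.H839.Rad.HN (evF W A B C₁ D F)

/-- the program -/
def pr : List (ℕ × List ℕ) := [
  (6, [7]),
  (2, [9, 11, 10]),
  (0, [0, 0, 0, 0, 0, 0, 0, 0, 0, 0]),
  (5, [7, 7, 11, 13, 12]),
  (0, [0, 0, 0, 0, 0, 0]),
  (6, [9, 9, 11, 15, 12]),
  (0, [0, 0]),
  (11, [19, 17, 20]),
  (0, [0, 0, 0, 0, 0, 0, 0, 0, 0, 0, 0, 0, 0, 0, 0, 0, 0, 0]),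
  (19, []),
  (0, [0]),
  (21, []),
  (0, [])]

/-- the equalities -/
def es : List (ℕ × ℕ) := [(10, 12), (8, 12), (6, 12), (4, 12), (2, 12)]

/-- the inequalities -/
def ns : List (ℕ × ℕ) := [(0, 12)]

set_option Elab.async false in
theorem chk : checkS C pr es ns L2 = true := by (rewrite [show @Cfsg.Agent.Lib.PackMatMul.checkS = delta% @Cfsg.Agent.Lib.PackMatMul.checkS from by delta Cfsg.Agent.Lib.PackMatMul.checkS; rfl, Cfsg.Agent.Lib.PackCol.withM_col]; decide +kernel)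

theorem snd : (∀ q ∈ es, S pr q.1 = S pr q.2) ∧ (∀ q ∈ ns, S pr q.1 ≠ S pr q.2) := soundS chk (by decide)

theorem g (m : ℕ) : S pr (13 + m) = gens2.getD m 1 := genS pr m

private theorem gd {G : Type*} (a b c d e f : G) (l : List G) (z : G) :
    ([a, b, c, d, e, f] ++ l).getD 1 z = b ∧ ([a, b, c, d, e, f] ++ l).getD 2 z = c ∧ ([a, b, c, d, e, f] ++ l).getD 4 z = e :=
  ⟨rfl, rfl, rfl⟩

theorem gA : S pr 14 = A := (g 1).trans (gd W A B C₁ D F Rep.gens 1).1
theorem gB : S pr 15 = B := (g 2).trans (gd W A B C₁ D F Rep.gens 1).2.1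
theorem gD : S pr 17 = D := (g 4).trans (gd W A B C₁ D F Rep.gens 1).2.2
theorem gx : S pr 19 = Rep.x := g 6
theorem gxi : S pr 20 = Rep.x⁻¹ := g 7
theorem gy : S pr 21 = Rep.y := g 8
theorem gyi : S pr 22 = Rep.y⁻¹ := g 9
theorem gz : S pr 23 = Rep.z := g 10
theorem gt : S pr 25 = Rep.t := g 12
theorem gti : S pr 26 = Rep.t⁻¹ := g 13
theorem v_one : S pr 12 = Rep.x * Rep.x⁻¹ := by
  have h := stepS (p := pr) (i := 12) (w := [6, 7]) (by decide) (by rfl)
  simp only [evF, mul_one] at h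
  rw [h]
  show S pr 19 * (S pr 20) = _
  rw [gx, gxi]
theorem one_eq : S pr 12 = 1 := by rw [v_one, mul_inv_cancel]
theorem v_u_A : S pr 11 = A * (Rep.y * (Rep.z * Rep.y⁻¹)) := by
  have h := stepS (p := pr) (i := 11) (w := [2, 9, 11, 10]) (by decide) (by rfl)
  simp only [evF, mul_one] at h
  rw [h]
  show S pr 14 * (S pr 21 * (S pr 23 * (S pr 22))) = _
  rw [gA, gy, gz, gyi]
theorem r_A : (A * (Rep.y * (Rep.z * Rep.y⁻¹))) ^ 11 = 1 := by
  have h1 := stepS (p := pr) (i := 10) (w := List.replicate 11 0) (by decide) (by rfl)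
  rw [evF_replicate] at h1
  have h2 : S pr 10 = S pr 12 := snd.1 (10, 12) (by decide)
  rw [h1, one_eq] at h2
  rw [← v_u_A]
  exact h2
theorem v_u_B : S pr 9 = B * (D * (D * (Rep.y * (Rep.z * Rep.y⁻¹)))) := by
  have h := stepS (p := pr) (i := 9) (w := [5, 7, 7, 11, 13, 12]) (by decide) (by rfl)
  simp only [evF, mul_one] at h
  rw [h]
  show S pr 15 * (S pr 17 * (S pr 17 * (S pr 21 * (S pr 23 * (S pr 22))))) = _
  rw [gB, gD, gy, gz, gyi]
theorem r_B : (B * (D * (D * (Rep.y * (Rep.z * Rep.y⁻¹))))) ^ 7 = 1 := by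
  have h1 := stepS (p := pr) (i := 8) (w := List.replicate 7 0) (by decide) (by rfl)
  rw [evF_replicate] at h1
  have h2 : S pr 8 = S pr 12 := snd.1 (8, 12) (by decide)
  rw [h1, one_eq] at h2
  rw [← v_u_B]
  exact h2
theorem v_u_E : S pr 7 = A * (D * (D * (Rep.x * (Rep.z * Rep.x⁻¹)))) := by
  have h := stepS (p := pr) (i := 7) (w := [6, 9, 9, 11, 15, 12]) (by decide) (by rfl)
  simp only [evF, mul_one] at h
  rw [h]
  show S pr 14 * (S pr 17 * (S pr 17 * (S pr 19 * (S pr 23 * (S pr 20))))) = _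
  rw [gA, gD, gx, gz, gxi]
theorem r_E : (A * (D * (D * (Rep.x * (Rep.z * Rep.x⁻¹))))) ^ 3 = 1 := by
  have h1 := stepS (p := pr) (i := 6) (w := List.replicate 3 0) (by decide) (by rfl)
  rw [evF_replicate] at h1
  have h2 : S pr 6 = S pr 12 := snd.1 (6, 12) (by decide)
  rw [h1, one_eq] at h2
  rw [← v_u_E]
  exact h2
theorem v_u_D : S pr 5 = D * (Rep.t * (Rep.z * Rep.t⁻¹)) := by
  have h := stepS (p := pr) (i := 5) (w := [11, 19, 17, 20]) (by decide) (by rfl)
  simp only [evF, mul_one] at h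
  rw [h]
  show S pr 17 * (S pr 25 * (S pr 23 * (S pr 26))) = _
  rw [gD, gt, gz, gti]
theorem r_D : (D * (Rep.t * (Rep.z * Rep.t⁻¹))) ^ 19 = 1 := by
  have h1 := stepS (p := pr) (i := 4) (w := List.replicate 19 0) (by decide) (by rfl)
  rw [evF_replicate] at h1
  have h2 : S pr 4 = S pr 12 := snd.1 (4, 12) (by decide)
  rw [h1, one_eq] at h2
  rw [← v_u_D]
  exact h2
theorem v_u_z : S pr 3 = Rep.z := by
  have h := stepS (p := pr) (i := 3) (w := [19]) (by decide) (by rfl)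
  simp only [evF, mul_one] at h
  rw [h]
  show S pr 23 = _
  rw [gz]
theorem r_z : (Rep.z) ^ 2 = 1 := by
  have h1 := stepS (p := pr) (i := 2) (w := List.replicate 2 0) (by decide) (by rfl)
  rw [evF_replicate] at h1
  have h2 : S pr 2 = S pr 12 := snd.1 (2, 12) (by decide)
  rw [h1, one_eq] at h2
  rw [← v_u_z]
  exact h2
theorem v_u_zn : S pr 1 = Rep.z := by
  have h := stepS (p := pr) (i := 1) (w := [21]) (by decide) (by rfl)
  simp only [evF, mul_one] at h
  rw [h]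
  show S pr 23 = _
  rw [gz]
theorem r_zn : (Rep.z) ^ 1 ≠ 1 := by
  have h1 := stepS (p := pr) (i := 0) (w := List.replicate 1 0) (by decide) (by rfl)
  rw [evF_replicate] at h1
  have h2 : S pr 0 ≠ S pr 12 := snd.2 (0, 12) (by decide)
  rw [h1, one_eq] at h2
  rw [← v_u_zn]
  exact h2

end Cfsg.Agent.H981.InvHN.T1

private theorem dce_62f436c1fe02 : _root_.True := by
  try have : _root_.True := by simp only [_root_.Cfsg.Agent.H839.Rad.HN.evF.eq_1]
  try have : _root_.True := by simp only [_root_.Cfsg.Agent.H839.Rad.HN.evF.eq_2]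
  exact _root_.True.intro
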