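import Cfsg.Agent.H478.RadTools_m3
import Cfsg.Agent.H109.NrOrb_m3
import Cfsg.Agent.FastGrp
import Cfsg.Agent.Prune
set_option linter.all false
open scoped Cfsg.Agent.FastGrp

/-!
# Involutions and elements of prime order in sporadic groups: tools (helper981, for S3830)

* `ns_pow`, `ns_conj`, `ns_word` : `NS` for inner automorphisms; `ns_word` : `y` an involution, `x ^ p = (x y) ^ n = 1`,
  `n` and `p` odd and coprime;
* `all_of_one` : the Sylow `p`-subgroups have order `p` : one element is enough;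
* `irow_of` : all automorphisms of odd order are inner;
* `of_cube` : Sylow `p`-subgroups `⟨a, b, c⟩` extraspecial of order `p ^ 3`: the elements `c`, `b`, `a b ^ j` are enough.
-/

set_option autoImplicit false

namespace Cfsg.Agent.H981.InvT

open Subgroup Cfsg Cfsg.Agent.H459.Inv

variable {K : Type*} [Group K]

theorem ns_pow {x : K} {k : ℕ} (h : NS (MulAut.conj (x ^ k))) : NS (MulAut.conj x) :=
  ns_of_pow (k := k) (by rwa [← map_pow])

theorem ns_conj {x : K} (t : K) (h : NS (MulAut.conj (t * x * t⁻¹))) : NS (MulAut.conj x) :=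
  ns_of_conj (g := MulAut.conj t) (by rwa [← map_inv, ← map_mul, ← map_mul])

theorem ns_word {x y : K} {p n : ℕ} (hx : x ^ p = 1) (hp : Odd p) (hy : orderOf y = 2) (h : (x * y) ^ n = 1)
    (hn : Odd n) (hc : n.Coprime p) : NS (MulAut.conj x) := by
  have h1 := orderOf_dvd_of_pow_eq_one hx
  have h2 := orderOf_dvd_of_pow_eq_one h
  refine ns_of_triangle hy (Odd.of_dvd_nat hp h1) (Odd.of_dvd_nat hn h2) ?_
  exact Nat.Coprime.coprime_dvd_left h2 (Nat.Coprime.coprime_dvd_right h1 hc)

/-- a cyclic group of prime order is generated by each of its non-trivial elements -/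
theorem mem_zpowers_of_prime {p : ℕ} (hp : p.Prime) {u v : K} (hu : orderOf u = p) (hv : v ∈ zpowers u) (hv1 : v ≠ 1) :
    ∃ m : ℕ, u = v ^ m := by
  have h1 : zpowers v ≤ zpowers u := zpowers_le.2 hv
  have hfin : Finite ↥(zpowers u) := Nat.finite_of_card_ne_zero (by rw [Nat.card_zpowers, hu]; exact hp.ne_zero)
  have h2 : orderOf v = p := by
    have h3 : orderOf v ∣ p := by
      rw [← hu, ← Nat.card_zpowers, ← Nat.card_zpowers]
      exact card_dvd_of_le h1
    rcases (Nat.dvd_prime hp).1 h3 with h4 | h4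
    · exact absurd (orderOf_eq_one_iff.1 h4) hv1
    · exact h4
  have h3 : zpowers v = zpowers u := by
    apply eq_of_le_of_card_ge h1
    rw [Nat.card_zpowers, Nat.card_zpowers, h2, hu]
  have h4 : u ∈ zpowers v := h3 ▸ mem_zpowers u
  have h6 : IsOfFinOrder v := by rw [← orderOf_pos_iff, h2]; exact hp.pos
  have h5 : u ∈ Submonoid.powers v := h6.mem_powers_iff_mem_zpowers.2 h4
  obtain ⟨m, hm⟩ := Submonoid.mem_powers_iff _ _ |>.1 h5
  exact ⟨m, hm.symm⟩

/-- Sylow subgroups of order `p` -/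
theorem all_of_one [Finite K] {p : ℕ} (hp : p.Prime) (h2 : ¬ p ^ 2 ∣ Nat.card K) {u : K} (hu : orderOf u = p)
    (h : NS (MulAut.conj u)) (x : K) (hx : orderOf x = p) : NS (MulAut.conj x) := by
  have : Fact p.Prime := ⟨hp⟩
  have hP : IsPGroup p ↥(zpowers u) := IsPGroup.of_card (n := 1) (by rw [Nat.card_zpowers, hu, pow_one])
  have hi : ¬ p ∣ (zpowers u).index := by
    rintro ⟨t, ht⟩
    apply h2
    have h4 := card_mul_index (zpowers u)
    rw [Nat.card_zpowers, hu, ht] at h4
    exact ⟨t, by rw [← h4]; ring⟩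
  obtain ⟨t, ht⟩ := Cfsg.Agent.H478.RadHeis.exists_conj_mem hP hi (g := x) (by rw [← hx]; exact pow_orderOf_eq_one x)
  apply ns_conj t
  obtain ⟨m, hm⟩ := mem_zpowers_of_prime hp hu ht (by
    intro h5
    rw [conj_eq_one_iff] at h5
    rw [h5, orderOf_one] at hx
    exact hp.one_lt.ne hx)
  apply ns_pow (k := m)
  rw [← hm]
  exact h

/-- one triangle is enough if the Sylow subgroups have order `p` -/
theorem all_of_word [Finite K] {p n : ℕ} (hp : p.Prime) (hp2 : Odd p) (h2 : ¬ p ^ 2 ∣ Nat.card K) {x y : K}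
    (hx : x ^ p = 1) (hy : orderOf y = 2) (h : (x * y) ^ n = 1) (hn : Odd n) (hc : n.Coprime p) (z : K)
    (hz : orderOf z = p) : NS (MulAut.conj z) := by
  have : Fact p.Prime := ⟨hp⟩
  refine all_of_one hp h2 (u := x) (orderOf_eq_prime hx ?_) (ns_word hx hp2 hy h hn hc) z hz
  rintro rfl
  rw [one_mul] at h
  have h1 := orderOf_dvd_of_pow_eq_one h
  rw [hy] at h1
  exact (Nat.not_even_iff_odd.2 hn) (even_iff_two_dvd.2 h1)

/-- the same for the product `x y` -/
theorem all_of_word' [Finite K] {p n : ℕ} (hp : p.Prime) (hp2 : Odd p) (h2 : ¬ p ^ 2 ∣ Nat.card K) {x y : K}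
    (hx : (x * y) ^ p = 1) (hy : orderOf y = 2) (h : x ^ n = 1) (hn : Odd n) (hc : n.Coprime p) (z : K)
    (hz : orderOf z = p) : NS (MulAut.conj z) := by
  refine all_of_word hp hp2 h2 hx hy ?_ hn hc z hz
  have h3 : y * y = 1 := by rw [← pow_two, ← hy, pow_orderOf_eq_one]
  rw [mul_assoc, h3, mul_one, h]

/-- all automorphisms of odd order are inner -/
theorem irow_of {p : ℕ} (hp : Odd p) (hc : center K = ⊥)
    (hin : ∀ α : MulAut K, Odd (orderOf α) → ∃ g : K, α = MulAut.conj g)
    (h : ∀ x : K, orderOf x = p → NS (MulAut.conj x)) : IRow p K := by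
  intro X hX
  obtain ⟨g, rfl⟩ := hin X (by rw [hX]; exact hp)
  refine h g ?_
  rw [← hX]
  refine (orderOf_injective (MulAut.conj : K →* MulAut K) ?_ g).symm
  rw [injective_iff_map_eq_one]
  intro a ha
  rw [← mem_bot, ← hc, mem_center_iff]
  intro b
  have h1 : MulAut.conj a b = b := by rw [ha]; rfl
  rw [MulAut.conj_apply] at h1
  exact (mul_inv_eq_iff_eq_mul.1 h1).symm

/-- an injective homomorphism -/
theorem ns_map {L : Type*} [Group L] (f : L →* K) (hf : Function.Injective f) {x : L} (h : NS (MulAut.conj x)) :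
    NS (MulAut.conj (f x)) := by
  obtain ⟨y, hy, hn⟩ := ns_inner_iff.1 h
  refine ns_inner_iff.2 ⟨f y, by rw [orderOf_injective f hf]; exact hy, fun hs => hn ?_⟩
  have h1 : (closure ({x, y} : Set L)).map f = closure ({f x, f y} : Set K) := by
    rw [MonoidHom.map_closure, Set.image_pair]
  rw [← h1] at hs
  have h2 : Function.Injective (f.subgroupMap (closure ({x, y} : Set L))) := fun a b hab =>
    Subtype.ext (hf (congrArg Subtype.val hab))
  exact Group.isSolvable_of_isSolvable_injective h2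

/-- a subgroup of index prime to `p` -/
theorem all_of_index [Finite K] {p : ℕ} (hp : p.Prime) {M : Subgroup K} (hi : ¬ p ∣ M.index)
    (h : ∀ x : M, orderOf x = p → NS (MulAut.conj x)) (x : K) (hx : orderOf x = p) : NS (MulAut.conj x) := by
  have : Fact p.Prime := ⟨hp⟩
  obtain ⟨Q⟩ : Nonempty (Sylow p M) := inferInstance
  have hQ : IsPGroup p ↥((Q : Subgroup M).map M.subtype) := Q.2.map _
  have hi2 : ¬ p ∣ ((Q : Subgroup M).map M.subtype).index := by
    intro h1
    have h2 : ((Q : Subgroup M).map M.subtype).index = (Q : Subgroup M).index * M.index := by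
      rw [index_map_of_injective _ M.subtype_injective, range_subtype]
    rw [h2] at h1
    rcases hp.dvd_mul.1 h1 with h3 | h3
    · exact Q.not_dvd_index h3
    · exact hi h3
  obtain ⟨t, ht⟩ := Cfsg.Agent.H478.RadHeis.exists_conj_mem hQ hi2 (g := x) (by rw [← hx]; exact pow_orderOf_eq_one x)
  apply ns_conj t
  obtain ⟨m, -, hm⟩ := ht
  have hm' : (m : K) = t * x * t⁻¹ := hm
  have h1 : orderOf m = p := by
    rw [← Subgroup.orderOf_coe, hm', ← hx, ← MulAut.conj_apply, MulEquiv.orderOf_eq]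
  have h2 := ns_map M.subtype M.subtype_injective (h m h1)
  rw [← hm']
  exact h2

/-- one class of involutions `t`, every element of order `p` commutes with an involution and `p ^ 2` does not divide
the order of `C(t)` -/
theorem all_of_invol [Finite K] {p : ℕ} (hp : p.Prime) (hone : ∀ s t : K, orderOf s = 2 → orderOf t = 2 → IsConj s t)
    (hcom : ∀ x : K, orderOf x = p → ∃ t : K, orderOf t = 2 ∧ t * x = x * t)
    (hcard : ∀ t : K, orderOf t = 2 → ¬ p ^ 2 ∣ Nat.card (centralizer ({t} : Set K))) {u : K} (hu : orderOf u = p)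
    (h : NS (MulAut.conj u)) (x : K) (hx : orderOf x = p) : NS (MulAut.conj x) := by
  have : Fact p.Prime := ⟨hp⟩
  obtain ⟨t, ht, htx⟩ := hcom x hx
  obtain ⟨s, hs, hsu⟩ := hcom u hu
  obtain ⟨g, hg⟩ := isConj_iff.1 (hone s t hs ht)
  have hv : orderOf (g * u * g⁻¹) = p := by rw [← hu, ← MulAut.conj_apply, MulEquiv.orderOf_eq]
  have htv : t * (g * u * g⁻¹) = g * u * g⁻¹ * t := by
    rw [← hg]
    calc g * s * g⁻¹ * (g * u * g⁻¹) = g * (s * u) * g⁻¹ := by group
      _ = g * (u * s) * g⁻¹ := by rw [hsu]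
      _ = _ := by group
  have hvC : g * u * g⁻¹ ∈ centralizer ({t} : Set K) := mem_centralizer_singleton_iff.2 htv.symm
  have hxC : x ∈ centralizer ({t} : Set K) := mem_centralizer_singleton_iff.2 htx.symm
  set v : centralizer ({t} : Set K) := ⟨g * u * g⁻¹, hvC⟩ with hvdef
  have hv' : orderOf v = p := by rw [← Subgroup.orderOf_coe]; exact hv
  have hP : IsPGroup p ↥(zpowers v) := IsPGroup.of_card (n := 1) (by rw [Nat.card_zpowers, hv', pow_one])
  have hi : ¬ p ∣ (zpowers v).index := by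
    rintro ⟨r, hr⟩
    apply hcard t ht
    have h4 := card_mul_index (zpowers v)
    rw [Nat.card_zpowers, hv', hr] at h4
    exact ⟨r, by rw [← h4]; ring⟩
  obtain ⟨c, hc⟩ := Cfsg.Agent.H478.RadHeis.exists_conj_mem hP hi (g := ⟨x, hxC⟩)
    (Subtype.ext (by rw [← hx]; exact pow_orderOf_eq_one x))
  obtain ⟨m, hm⟩ := mem_zpowers_of_prime hp hv' hc (by
    intro h5
    rw [conj_eq_one_iff] at h5
    have h6 : x = 1 := congrArg Subtype.val h5
    rw [h6, orderOf_one] at hx
    exact hp.one_lt.ne hx)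
  apply ns_conj (c : K)
  apply ns_pow (k := m)
  have h7 : g * u * g⁻¹ = ((c : K) * x * (c : K)⁻¹) ^ m := congrArg Subtype.val hm
  rw [← h7]
  have h8 : NS (MulAut.conj (g⁻¹ * (g * u * g⁻¹) * g⁻¹⁻¹)) := by
    have h9 : g⁻¹ * (g * u * g⁻¹) * g⁻¹⁻¹ = u := by group
    rw [h9]; exact h
  exact ns_conj g⁻¹ h8

section Cube

open Cfsg.Agent.H978.RadCube

variable {a b c : K}

/-- **The Sylow subgroup of order `p ^ 3`** (the proof of `bad_of_cube` of helper978) -/
theorem of_cube [Finite K] {B : K → Prop} (Bp : ∀ (x : K) (k : ℕ), B (x ^ k) → B x) (Bc : ∀ (t x : K), B (t * x * t⁻¹) → B x)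
    {p : ℕ} (hp : p.Prime) (hcard : ¬ p ^ 4 ∣ Nat.card K) (hac : a * c = c * a)
    (hbc : b * c = c * b) (hab : a * b = c * (b * a)) (ha : a ^ p = 1) (hb : b ^ p = 1) (hc : c ^ p = 1) (hc1 : c ≠ 1)
    (h1 : B c) (h2 : B b) (h3 : ∀ j < p, B (a * b ^ j)) (x : K) (hx : orderOf x = p) : B x := by
  have : Fact p.Prime := ⟨hp⟩
  have hP := isPGroup_cube hac hbc hab ha hb hc
  obtain ⟨n, hn⟩ := IsPGroup.iff_card.1 hP
  -- the order is `p ^ 3`
  have hncomm : ¬ ∀ u v : ↥(cube hac hbc hab), u * v = v * u := by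
    intro h
    have hma : a ∈ cube hac hbc hab := ⟨1, 0, 0, by simp⟩
    have hmb : b ∈ cube hac hbc hab := ⟨0, 1, 0, by simp⟩
    have h4 := congrArg Subtype.val (h ⟨a, hma⟩ ⟨b, hmb⟩)
    have h5 : a * b = b * a := h4
    rw [hab] at h5
    exact hc1 (mul_eq_right.1 h5)
  have hn3 : 3 ≤ n := by
    by_contra h4
    have h5 : n ≤ 2 := by omega
    apply hncomm
    interval_cases n
    · intro u v
      have h6 : Subsingleton ↥(cube hac hbc hab) := by
        rw [pow_zero] at hn
        exact (Nat.card_eq_one_iff_unique.1 hn).1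
      exact Subsingleton.elim _ _
    · rw [pow_one] at hn
      have h6 := isCyclic_of_prime_card hn
      intro u v
      let _ := IsCyclic.commGroup (α := ↥(cube hac hbc hab))
      exact mul_comm u v
    · intro u v
      let _ := IsPGroup.commGroupOfCardEqPrimeSq hn
      exact mul_comm u v
  have hi : ¬ p ∣ (cube hac hbc hab).index := by
    rintro ⟨t, ht⟩
    apply hcard
    have h4 := card_mul_index (cube hac hbc hab)
    rw [hn, ht] at h4
    rw [← h4]
    obtain ⟨s, rfl⟩ := Nat.exists_eq_add_of_le hn3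
    exact ⟨p ^ s * t, by ring⟩
  -- `x` is conjugate to an element of the cube
  let P : Sylow p K := hP.toSylow hi
  have hxp : IsPGroup p ↥(zpowers x) := IsPGroup.of_card (n := 1) (by rw [Nat.card_zpowers, hx, pow_one])
  obtain ⟨P', hP'⟩ := hxp.exists_le_sylow
  obtain ⟨g, hg⟩ := MulAction.exists_smul_eq K P' P
  have h4 : g * x * g⁻¹ ∈ (P : Subgroup K) := by
    rw [← hg, Sylow.coe_subgroup_smul]
    exact smul_mem_pointwise_smul x (MulAut.conj g) _ (hP' (mem_zpowers x))
  obtain ⟨i, j, k, hijk⟩ := h4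
  have hx1 : g * x * g⁻¹ ≠ 1 := by
    intro h5
    rw [conj_eq_one_iff] at h5
    rw [h5, orderOf_one] at hx
    exact hp.one_lt.ne hx
  apply Bc g
  rw [hijk] at hx1 ⊢
  have zp : ∀ {u : K} (_ : u ^ p = 1) {r s : ℤ} (_ : (r : ZMod p) = s), u ^ r = u ^ s := by
    intro u hu r s hrs
    have h5 : (p : ℤ) ∣ s - r := (ZMod.intCast_eq_intCast_iff_dvd_sub r s p).1 hrs
    obtain ⟨t, ht⟩ := h5
    have h6 : s = r + p * t := by linarith
    rw [h6, zpow_add, zpow_mul, zpow_natCast, hu, one_zpow, mul_one]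
  -- inverses modulo `p`
  have hinv : ∀ r : ℤ, ¬ (r : ZMod p) = 0 → ∃ m : ℕ, ((r * m : ℤ) : ZMod p) = 1 := by
    intro r hr
    refine ⟨((r : ZMod p)⁻¹).val, ?_⟩
    push_cast
    rw [ZMod.natCast_val, ZMod.cast_id, mul_inv_cancel₀ hr]
  by_cases hi0 : (i : ZMod p) = 0
  · have ei : a ^ i = 1 := by rw [zp ha (r := i) (s := 0) (by simpa using hi0), zpow_zero]
    by_cases hj0 : (j : ZMod p) = 0
    · have ej : b ^ j = 1 := by rw [zp hb (r := j) (s := 0) (by simpa using hj0), zpow_zero]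
      rw [ei, ej, one_mul, one_mul] at hx1 ⊢
      have hk0 : ¬ (k : ZMod p) = 0 := by
        intro h5
        exact hx1 (by rw [zp hc (r := k) (s := 0) (by simpa using h5), zpow_zero])
      obtain ⟨m, hm⟩ := hinv k hk0
      refine Bp _ m ?_
      rw [← zpow_natCast, ← zpow_mul, zp hc (r := k * m) (s := 1) (by rw [hm]; simp), zpow_one]
      exact h1
    · obtain ⟨m, hm⟩ := hinv j hj0
      refine Bp _ m ?_
      obtain ⟨k', hk'⟩ := form_pow hac hbc hab i j k m
      have e1 : a ^ (i * (m : ℤ)) = 1 := by rw [zpow_mul, ei, one_zpow]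
      rw [hk', e1, one_mul, zp hb (r := j * m) (s := 1) (by rw [hm]; simp), zpow_one]
      refine Bc (a ^ (-k')) _ ?_
      have h5 := a_bpow hac hbc hab (-k') 1
      rw [mul_one, zpow_one] at h5
      have h6 : a ^ (-k') * (b * c ^ k') * (a ^ (-k'))⁻¹ = b := by
        rw [← mul_assoc, h5]
        have c1 : c ^ (-k') * (b * a ^ (-k')) * c ^ k' = b * a ^ (-k') := by
          have h7 : Commute (b * a ^ (-k')) (c ^ k') :=
            Commute.mul_left ((show Commute b c from hbc).zpow_right k')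
              ((show Commute a c from hac).zpow_zpow _ _)
          rw [mul_assoc, h7.eq, ← mul_assoc, ← zpow_add]
          simp
        rw [c1, mul_inv_cancel_right]
      rw [h6]
      exact h2
  · obtain ⟨m, hm⟩ := hinv i hi0
    refine Bp _ m ?_
    obtain ⟨k', hk'⟩ := form_pow hac hbc hab i j k m
    have ej : b ^ (j * (m : ℤ)) = b ^ ((((j * m : ℤ) : ZMod p)).val) := by
      rw [← zpow_natCast b, zp hb]
      rw [Int.cast_natCast, ZMod.natCast_val, ZMod.cast_id]
    rw [hk', zp ha (r := i * m) (s := 1) (by rw [hm]; simp), zpow_one, ej]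
    set r : ℕ := (((j * m : ℤ) : ZMod p)).val
    have hr : r < p := ZMod.val_lt _
    refine Bc (b ^ (k')) _ ?_
    have h6 : b ^ (k') * (a * b ^ r * c ^ k') * (b ^ (k'))⁻¹ = a * b ^ r := by
      have h5 := bpow_a hbc hab k'
      have h7 : b ^ k' * a = c ^ (-k') * (a * b ^ k') := by
        rw [h5, ← mul_assoc, ← zpow_add]
        simp
      have c1 : Commute (b ^ k') (b ^ r) := by
        rw [← zpow_natCast b]
        exact (Commute.refl b).zpow_zpow _ _
      have c2 : Commute (b ^ k') (c ^ k') := (show Commute b c from hbc).zpow_zpow _ _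
      have c3 : Commute (a * b ^ r) (c ^ k') :=
        Commute.mul_left ((show Commute a c from hac).zpow_right k')
          (((show Commute b c from hbc).zpow_right k').pow_left r)
      calc b ^ (k') * (a * b ^ r * c ^ k') * (b ^ (k'))⁻¹
          = (b ^ k' * a) * b ^ r * c ^ k' * (b ^ k')⁻¹ := by simp only [mul_assoc]
        _ = c ^ (-k') * (a * (b ^ k' * b ^ r)) * c ^ k' * (b ^ k')⁻¹ := by rw [h7]; simp only [mul_assoc]
        _ = c ^ (-k') * (a * (b ^ r * b ^ k')) * c ^ k' * (b ^ k')⁻¹ := by rw [c1.eq]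
        _ = c ^ (-k') * (a * b ^ r) * (b ^ k' * c ^ k') * (b ^ k')⁻¹ := by simp only [mul_assoc]
        _ = c ^ (-k') * ((a * b ^ r) * c ^ k') * (b ^ k' * (b ^ k')⁻¹) := by rw [c2.eq]; simp only [mul_assoc]
        _ = c ^ (-k') * (c ^ k' * (a * b ^ r)) * 1 := by rw [c3.eq, mul_inv_cancel]
        _ = a * b ^ r := by rw [mul_one, ← mul_assoc, ← zpow_add]; simp
    rw [h6]
    exact h3 r hr

end Cube

end Cfsg.Agent.H981.InvT
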